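import Cfsg.Agent.Lib.ProductMeet.Rigid
import Cfsg.Agent.Lib.Goldschmidt.Structure
import Cfsg.Agent.Lib.Walter.CoreFree
import Cfsg.Agent.Lib.Walter.RankFour.Assembly

/-!
A group with trivial core generated by the conjugates of an abelian strongly closed subgroup `B`:
an automorphism of odd order fixing a Sylow 2-subgroup pointwise, lying in a group generated by
2-automorphisms that fix `B` pointwise, is trivial.
-/

set_option autoImplicit false
set_option linter.style.haveILetI false

namespace CfsgLib.ProductMeet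

open Subgroup CfsgLib.Goldschmidt
open scoped commutatorElement

universe u

local instance : Fact (Nat.Prime 2) := ⟨Nat.prime_two⟩

variable {K : Type u} [Group K] [Finite K]

omit [Finite K] in
/-- An automorphism acting trivially on `L / Z(L)` fixes the perfect group `L` pointwise. -/
theorem eq_self_of_descend {L : Type u} [Group L] (hL : _root_.commutator L = ⊤) {e : MulAut L}
    (he : descendCenter L e = 1) (a : L) : e a = a := by
  have hz : ∀ b : L, b⁻¹ * e b ∈ center L := fun b => by
    rw [← QuotientGroup.eq]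
    have h := DFunLike.congr_fun he (QuotientGroup.mk' (center L) b)
    rw [descendCenter_mk, MulAut.one_apply] at h
    exact h.symm
  have hle : _root_.commutator L ≤ MonoidHom.eqLocus e.toMonoidHom (MonoidHom.id L) := by
    rw [commutator_eq_closure, closure_le]
    rintro _ ⟨b, c, rfl⟩
    show e ⁅b, c⁆ = ⁅b, c⁆
    obtain ⟨z, hzc, hzb⟩ : ∃ z ∈ center L, e b = b * z :=
      ⟨_, hz b, (mul_inv_cancel_left b (e b)).symm⟩
    obtain ⟨w, hwc, hwb⟩ : ∃ w ∈ center L, e c = c * w :=
      ⟨_, hz c, (mul_inv_cancel_left c (e c)).symm⟩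
    rw [commutatorElement_def, map_mul, map_mul, map_mul, map_inv, map_inv, hzb, hwb]
    have h1 := mem_center_iff.1 hzc
    have h2 := mem_center_iff.1 hwc
    calc b * z * (c * w) * (b * z)⁻¹ * (c * w)⁻¹
        = b * (z * c) * w * z⁻¹ * b⁻¹ * w⁻¹ * c⁻¹ := by group
      _ = b * (c * z) * w * z⁻¹ * b⁻¹ * w⁻¹ * c⁻¹ := by rw [h1 c]
      _ = b * c * (z * w) * z⁻¹ * b⁻¹ * w⁻¹ * c⁻¹ := by group
      _ = b * c * (w * z) * z⁻¹ * b⁻¹ * w⁻¹ * c⁻¹ := by rw [← h1 w]
      _ = b * c * (w * b⁻¹) * w⁻¹ * c⁻¹ := by group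
      _ = b * c * (b⁻¹ * w) * w⁻¹ * c⁻¹ := by rw [← h2 b⁻¹]
      _ = b * c * b⁻¹ * c⁻¹ := by group
  exact hle (hL ▸ mem_top a)

theorem eq_one_of_generated
    (hconcl : ∀ (X : Type u) [Group X] [Finite X] [IsSimpleGroup X], ¬ IsMulCommutative X →
      HasSCA X → Concl X)
    (hO : Cfsg.pPrimeCore 2 K = ⊥) (T : Sylow 2 K) {B : Subgroup K} (hB : IsMulCommutative ↥B)
    (hsc : Cfsg.IsStronglyClosed B (T : Subgroup K)) (hgood : GoodComps B)
    (hloc : LocalFacts (T : Subgroup K) B) (hgen : normalClosure (B : Set K) = ⊤)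
    (Φ : Set (MulAut K)) (hΦ2 : ∀ φ ∈ Φ, ∃ k : ℕ, φ ^ 2 ^ k = 1)
    (hΦB : ∀ φ ∈ Φ, ∀ b ∈ B, φ b = b)
    (y : MulAut K) (hy : y ∈ closure Φ) (hodd : Odd (orderOf y))
    (hfix : ∀ t ∈ (T : Subgroup K), y t = t) : y = 1 := by
  classical
  set A : Subgroup (MulAut K) := closure Φ with hA
  have hAB : ∀ φ ∈ A, ∀ b ∈ B, φ b = b := by
    intro φ hφ
    induction hφ using closure_induction with
    | mem ψ hψ => exact hΦB ψ hψ
    | one => exact fun b _ => rfl
    | mul ψ χ _ _ ih1 ih2 => exact fun b hb => by rw [MulAut.mul_apply, ih2 b hb, ih1 b hb]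
    | inv ψ _ ih =>
      exact fun b hb => by
        conv_lhs => rw [← ih b hb]
        exact ψ.symm_apply_apply b
  have hcomp : ∀ L : Subgroup K, Cfsg.IsComponent L → ∀ a ∈ L, y a = a := by
    intro L hL
    haveI : IsSimpleGroup (↥L ⧸ center ↥L) := hL.2.2
    haveI := hL.2.1
    have hA' := structure_isAComp hO hB hsc hloc hgen hL
    obtain ⟨Tx, hTx, hscX, hcommX, hneX⟩ := structure_hasSCA hO hB hsc hloc hA'
      (QuotientGroup.mk' (center ↥L)) (QuotientGroup.mk'_surjective _) fun a => by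
      rw [QuotientGroup.mk'_apply, QuotientGroup.eq_one_iff, mem_center_iff, mem_centralizer_iff]
      exact ⟨fun h w hw => congrArg Subtype.val (h ⟨w, hw⟩), fun h w => Subtype.ext (h w w.2)⟩
    have hX : ¬ IsMulCommutative (↥L ⧸ center ↥L) :=
      structure_not_comm (Group.IsPerfect.ofSurjective (QuotientGroup.mk'_surjective _))
    have hinv := (hgood L hA').sc_eq Tx _ hscX hcommX hneX
    -- an element of `B` in `L` outside the centre
    obtain ⟨b, hbB, hbne⟩ : ∃ b : ↥L, (b : K) ∈ B ∧ QuotientGroup.mk' (center ↥L) b ≠ 1 := by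
      by_contra hno
      push Not at hno
      refine hneX ((eq_bot_iff_forall _).2 ?_)
      rintro _ ⟨b, hb, rfl⟩
      exact hno b (mem_subgroupOf.1 hb)
    -- every element of `A` fixes the component
    have hmap : ∀ φ ∈ A, L.map (φ : K ≃* K).toMonoidHom = L := by
      intro φ hφ
      by_contra hne
      have hL' := CfsgLib.Components.isComponent_map_equiv (φ : K ≃* K) hL
      have hc := CfsgLib.Components.commutator_components_eq_bot hL' hL hne
      apply hbne
      rw [QuotientGroup.mk'_apply, QuotientGroup.eq_one_iff, mem_center_iff]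
      intro w
      exact Subtype.ext (CfsgLib.Components.commute_of_commutator_eq_bot hc
        ⟨b, b.2, hAB φ hφ b hbB⟩ w.2).symm
    let res : ↥A →* MulAut ↥L :=
      { toFun := fun φ =>
          (((φ : MulAut K) : K ≃* K).subgroupMap L).trans (MulEquiv.subgroupCongr (hmap φ φ.2))
        map_one' := MulEquiv.ext fun a => Subtype.ext rfl
        map_mul' := fun φ ψ => MulEquiv.ext fun a => Subtype.ext rfl }
    let ψ : ↥A →* MulAut (↥L ⧸ center ↥L) := (descendCenter ↥L).comp res
    have hψ : ∀ (φ : ↥A) (a : ↥L), ψ φ (QuotientGroup.mk' (center ↥L) a) =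
        QuotientGroup.mk' (center ↥L) (res φ a) := fun φ a => descendCenter_mk _ a
    have hψfix : ∀ φ : ↥A, ∀ x ∈ involSet (Tx : Subgroup (↥L ⧸ center ↥L)), ψ φ x = x := by
      intro φ x hx
      rw [← hinv] at hx
      obtain ⟨a, ha, rfl⟩ := hx
      rw [hψ]
      exact congrArg _ (Subtype.ext (hAB φ φ.2 a (mem_subgroupOf.1 ha)))
    have hy1 : ψ ⟨y, hy⟩ = 1 := by
      have hord : Odd (orderOf (ψ ⟨y, hy⟩)) := hodd.of_dvd_nat
        ((orderOf_map_dvd ψ _).trans (by rw [Subgroup.orderOf_mk]))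
      rcases hconcl (↥L ⧸ center ↥L) hX ⟨Tx, _, hneX, hcommX, hscX⟩ with ⟨S, hS⟩ | ⟨H, hH⟩
      · -- abelian Sylow 2-subgroups: the generators act as elements of the Sylow 2-subgroup
        have hel := (CfsgLib.Walter.RankFour.good_all CfsgLib.Walter.coreFree _ hX S hS).elementary Tx
        set P := (Tx : Subgroup (↥L ⧸ center ↥L)).map MulAut.conj with hP
        have hgenP : ∀ φ (hφ : φ ∈ A), ψ ⟨φ, hφ⟩ ∈ P := by
          intro φ hφ
          induction hφ using closure_induction with
          | mem χ hχ =>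
            obtain ⟨k, hk⟩ := hΦ2 χ hχ
            set χ' : ↥A := ⟨χ, subset_closure hχ⟩ with hχ'
            have hk' : ψ χ' ^ 2 ^ k = 1 := by
              rw [← map_pow, show χ' ^ 2 ^ k = 1 from Subtype.ext hk, map_one]
            have hfix' : ∀ x ∈ (Tx : Subgroup (↥L ⧸ center ↥L)), ψ χ' x = x :=
              fun x hx => hψfix χ' x ⟨hx, hel x hx⟩
            obtain ⟨z, hz, hze⟩ := (hgood L hA').inner Tx (ψ χ') ⟨k, hk'⟩ (hψfix χ')
              fun t ht => by
                rw [hfix' t ht, mul_inv_cancel]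
                exact ⟨one_mem _, one_pow _⟩
            exact ⟨z, hz, hze.symm⟩
          | one =>
            rw [show (⟨1, _⟩ : ↥A) = 1 from rfl, map_one]
            exact one_mem _
          | mul χ χ' h1 h2 ih1 ih2 =>
            rw [show (⟨χ * χ', _⟩ : ↥A) = ⟨χ, h1⟩ * ⟨χ', h2⟩ from rfl, map_mul]
            exact mul_mem ih1 ih2
          | inv χ h1 ih =>
            rw [show (⟨χ⁻¹, _⟩ : ↥A) = ⟨χ, h1⟩⁻¹ from rfl, map_inv]
            exact inv_mem ih
        obtain ⟨z, hz, hze⟩ := hgenP y hy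
        have hzn : MulAut.conj (z ^ orderOf (ψ ⟨y, hy⟩)) = 1 := by
          rw [map_pow, hze, pow_orderOf_eq_one]
        have hZ : center (↥L ⧸ center ↥L) = ⊥ := by
          rcases (inferInstance : (center (↥L ⧸ center ↥L)).Normal).eq_bot_or_eq_top with h | h
          · exact h
          · exact absurd (center_eq_top_iff.1 h) hX
        have hz0 : z ^ orderOf (ψ ⟨y, hy⟩) = 1 := by
          rw [← mem_bot, ← hZ, mem_center_iff]
          intro w
          have h1 := DFunLike.congr_fun hzn w
          rw [MulAut.conj_apply, MulAut.one_apply, mul_inv_eq_iff_eq_mul] at h1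
          exact h1.symm
        rw [← hze, eq_one_of_two_odd Tx.isPGroup' hz hord hz0, map_one]
      · -- a strongly embedded subgroup: rigidity
        refine eq_one_of_fix_sylow hX hH Tx _ hord fun t ht => ?_
        obtain ⟨a, rfl⟩ := QuotientGroup.mk'_surjective _ t
        rw [hψ]
        exact congrArg _ (Subtype.ext (hfix _ ((hTx a).1 ht)))
    intro a ha
    exact congrArg Subtype.val
      (eq_self_of_descend (CfsgLib.Components.quasisimple_commutator_eq_top hL.2) hy1 ⟨a, ha⟩)
  have htop : (⊤ : Subgroup K) ≤ MonoidHom.eqLocus (y : K ≃* K).toMonoidHom (MonoidHom.id K) := by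
    rw [← structure_sup_eq_top hO hB hsc hloc hgen]
    exact sup_le (fun b hb => hAB y hy b hb.1) (sSup_le fun L hL a ha => hcomp L hL a ha)
  exact MulEquiv.ext fun a => htop (mem_top a)

end CfsgLib.ProductMeet
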