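import Cfsg.Agent.Lib.ProductMeet.Component
import Cfsg.Agent.Lib.ProductFusion.Main
import Cfsg.Agent.Lib.Goldschmidt.LocalSplit
import Cfsg.Agent.Lib.PCore.PSolvable
import Cfsg.Agent.S1250

/-!
Commuting strongly closed subgroups that may meet: the commutator of their normal closures lies in
the normal closure of their intersection, modulo the core.
-/

set_option autoImplicit false
set_option linter.style.haveILetI false

namespace CfsgLib.ProductMeet

open Subgroup CfsgLib.Goldschmidt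
open scoped commutatorElement Pointwise

universe u

local instance : Fact (Nat.Prime 2) := ⟨Nat.prime_two⟩

variable {G : Type u} [Group G] [Finite G]

/-- A normal subgroup centralising the normal 2-subgroup `D` and of odd order modulo it is `D` times
a subgroup of the core. -/
theorem le_sup_core_of_quotient (D N : Subgroup G) [D.Normal] [N.Normal] (hD : IsPGroup 2 ↥D)
    (hcent : N ≤ centralizer (D : Set G))
    (hN : N.map (QuotientGroup.mk' D) ≤ Cfsg.pPrimeCore 2 (G ⧸ D)) :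
    N ≤ D ⊔ Cfsg.pPrimeCore 2 G := by
  have hker : ((QuotientGroup.mk' D).comp N.subtype).ker = D.subgroupOf N := by
    rw [← MonoidHom.comap_ker, QuotientGroup.ker_mk']
    rfl
  have hidx : (D.subgroupOf N).index.Coprime 2 := by
    rw [← hker, index_ker]
    refine Nat.Coprime.coprime_dvd_left (card_dvd_of_le ?_) CfsgLib.PCore.pPrimeCore_coprime
    rwa [MonoidHom.range_comp, range_subtype]
  have hcen : D.subgroupOf N ≤ center ↥N := fun d hd => mem_center_iff.2 fun n => Subtype.ext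
    (mem_centralizer_iff.1 (hcent n.2) d (mem_subgroupOf.1 hd)).symm
  have htop := CfsgLib.PCore.sup_pPrimeCore_eq_top_of_central (D.subgroupOf N) hcen
    (hD.comap_subtype (K := N)) hidx
  calc N = (⊤ : Subgroup ↥N).map N.subtype := by rw [← MonoidHom.range_eq_map, range_subtype]
    _ = (D.subgroupOf N).map N.subtype ⊔ (Cfsg.pPrimeCore 2 ↥N).map N.subtype := by
      rw [← htop, Subgroup.map_sup]
    _ ≤ D ⊔ Cfsg.pPrimeCore 2 G := sup_le_sup (map_comap_le _ _)
      (by rw [CfsgLib.PCore.map_pPrimeCore_subtype_of_normal]; exact inf_le_right)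

omit [Finite G] in
/-- A subgroup normalised by `H` and containing the `H`-conjugates of `A`, together with the normal
subgroup `M`, contains all conjugates of `A` when `G = M H`. -/
theorem normalClosure_le_sup {M H A C : Subgroup G} [M.Normal] (htop : M ⊔ H = ⊤)
    (hC : ∀ h ∈ H, ∀ a ∈ A, h * a * h⁻¹ ∈ C) : normalClosure (A : Set G) ≤ M ⊔ C := by
  refine (closure_le _).2 fun x hx => ?_
  obtain ⟨a, ha, hax⟩ := Group.mem_conjugatesOfSet_iff.1 hx
  obtain ⟨g, rfl⟩ := isConj_iff.1 hax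
  obtain ⟨m, hm, h, hh, rfl⟩ := mem_sup_of_normal_left.1 (htop ▸ mem_top g)
  rw [SetLike.mem_coe, show m * h * a * (m * h)⁻¹ = m * (h * a * h⁻¹) * m⁻¹ by group]
  exact mul_mem (mul_mem (mem_sup_left hm) (mem_sup_right (hC h hh a ha))) (inv_mem (mem_sup_left hm))

omit [Finite G] in
theorem stronglyClosed_subgroupOf {A S H : Subgroup G} (h : Cfsg.IsStronglyClosed A S) :
    Cfsg.IsStronglyClosed (A.subgroupOf H) (S.subgroupOf H) :=
  ⟨fun _ ha => mem_subgroupOf.2 (h.1 (mem_subgroupOf.1 ha)), fun _ ha g hg =>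
    mem_subgroupOf.2 (h.2 _ (mem_subgroupOf.1 ha) g (mem_subgroupOf.1 hg))⟩

section

variable
    (hconcl : ∀ (X : Type u) [Group X] [Finite X] [IsSimpleGroup X], ¬ IsMulCommutative X →
      HasSCA X → Concl X)
    (hgood : ∀ {H : Type u} [Group H] [Finite H], Cfsg.pPrimeCore 2 H = ⊥ → ∀ (T : Sylow 2 H)
      {B : Subgroup H}, IsMulCommutative ↥B → Cfsg.IsStronglyClosed B (T : Subgroup H) → GoodComps B)
    (S : Sylow 2 G) {S₁ S₂ : Subgroup G} (h₁ : Cfsg.IsStronglyClosed S₁ (S : Subgroup G))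
    (h₂ : Cfsg.IsStronglyClosed S₂ (S : Subgroup G)) (hc : ∀ a ∈ S₁, ∀ b ∈ S₂, a * b = b * a)

include hconcl hgood h₁ h₂ hc

theorem commutator_le_normalClosure (hO : Cfsg.pPrimeCore 2 G = ⊥) :
    ⁅normalClosure (S₁ : Set G), normalClosure (S₂ : Set G)⁆ ≤
      normalClosure ((S₁ ⊓ S₂ : Subgroup G) : Set G) := by
  set D : Subgroup G := S₁ ⊓ S₂ with hDdef
  set M := normalClosure (D : Set G) with hMdef
  haveI : M.Normal := normalClosure_normal
  have hDM : D ≤ M := subset_normalClosure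
  have hscD : Cfsg.IsStronglyClosed D (S : Subgroup G) :=
    ⟨inf_le_left.trans h₁.1, fun x hx g hg => ⟨h₁.2 x hx.1 g hg, h₂.2 x hx.2 g hg⟩⟩
  have hDcomm : IsMulCommutative ↥D := ⟨⟨fun a b => Subtype.ext (hc a a.2.1 b b.2.2)⟩⟩
  obtain ⟨P, hP⟩ := CfsgLib.SubJoin.exists_sylow_subnormal S (A := M)
    (inferInstance : M.Normal).isSubnormal
  -- the normaliser of the Sylow 2-subgroup of `M`
  set T₀ : Subgroup G := (S : Subgroup G) ⊓ M with hT₀
  set H : Subgroup G := normalizer (T₀ : Set G) with hHdef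
  have htop : M ⊔ H = ⊤ := by
    have h := Sylow.normalizer_sup_eq_top P
    rwa [hP, subgroupOf_map_subtype, sup_comm] at h
  have hSH : (S : Subgroup G) ≤ H := by
    refine le_trans (le_inf le_normalizer ?_) inf_normalizer_le_normalizer_inf
    rw [normalizer_eq_top_iff.2 (inferInstance : M.Normal)]
    exact le_top
  have hDH : ∀ h ∈ H, ∀ d ∈ D, h * d * h⁻¹ ∈ D := fun h hh d hd =>
    hscD.2 d hd h ((mem_normalizer_iff.1 hh d).1 ⟨hscD.1 hd, hDM hd⟩).1
  set D' : Subgroup ↥H := D.subgroupOf H with hD'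
  haveI : D'.Normal := ⟨fun d hd g => mem_subgroupOf.2 (hDH g g.2 d (mem_subgroupOf.1 hd))⟩
  set SH : Sylow 2 ↥H := S.subtype hSH with hSHdef
  have hSHcoe : (SH : Subgroup ↥H) = (S : Subgroup G).subgroupOf H := rfl
  have hsc₁ : Cfsg.IsStronglyClosed (S₁.subgroupOf H) (SH : Subgroup ↥H) :=
    hSHcoe ▸ stronglyClosed_subgroupOf h₁
  have hsc₂ : Cfsg.IsStronglyClosed (S₂.subgroupOf H) (SH : Subgroup ↥H) :=
    hSHcoe ▸ stronglyClosed_subgroupOf h₂
  set π := QuotientGroup.mk' D'
  set C₁ := normalClosure ((S₁.subgroupOf H : Subgroup ↥H) : Set ↥H) with hC₁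
  set C₂ := normalClosure ((S₂.subgroupOf H : Subgroup ↥H) : Set ↥H) with hC₂
  -- modulo `D` the two families meet trivially
  let pr : ProductFusion.Pair (↥H ⧸ D') :=
    { P := SH.mapSurjective (QuotientGroup.mk'_surjective D')
      S₁ := (S₁.subgroupOf H).map π
      S₂ := (S₂.subgroupOf H).map π
      comm := by
        rintro _ ⟨a, ha, rfl⟩ _ ⟨b, hb, rfl⟩
        rw [← map_mul, ← map_mul]
        exact congrArg π (Subtype.ext (hc a (mem_subgroupOf.1 ha) b (mem_subgroupOf.1 hb)))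
      disj := by
        refine eq_bot_iff.2 ?_
        rintro q ⟨⟨a, ha, rfl⟩, b, hb, hab⟩
        obtain ⟨d, hd, hbd⟩ := (QuotientGroup.mk'_eq_mk' D').1 hab
        have ha2 : (a : G) ∈ S₂ := by
          rw [← hbd, Subgroup.coe_mul]
          exact mul_mem (mem_subgroupOf.1 hb) (mem_subgroupOf.1 hd).2
        rw [mem_bot, QuotientGroup.mk'_apply, QuotientGroup.eq_one_iff]
        exact mem_subgroupOf.2 ⟨mem_subgroupOf.1 ha, ha2⟩
      sc₁ := by
        rw [Sylow.coe_mapSurjective]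
        exact Cfsg.Agent.S1250.result SH _ hsc₁ D'
      sc₂ := by
        rw [Sylow.coe_mapSurjective]
        exact Cfsg.Agent.S1250.result SH _ hsc₂ D' }
  have hX : ⁅C₁, C₂⁆.map π ≤ Cfsg.pPrimeCore 2 (↥H ⧸ D') := by
    rw [map_commutator, hC₁, hC₂, Subgroup.map_normalClosure _ π (QuotientGroup.mk'_surjective D'),
      Subgroup.map_normalClosure _ π (QuotientGroup.mk'_surjective D'), ← coe_map, ← coe_map]
    exact ProductFusion.commutator_le_pPrimeCore pr
  have hCcent : C₁ ≤ centralizer (D' : Set ↥H) := normalClosure_le_normal fun a ha =>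
    mem_centralizer_iff.2 fun d hd => Subtype.ext
      (hc a (mem_subgroupOf.1 ha) d (mem_subgroupOf.1 hd).2).symm
  have hDC : D' ≤ C₁ := fun d hd => subset_normalClosure (mem_subgroupOf.2 (mem_subgroupOf.1 hd).1)
  have hD2 : IsPGroup 2 ↥D' := (S.isPGroup'.to_le hscD.1).comap_subtype
  have hXle : ⁅C₁, C₂⁆ ≤ D' ⊔ Cfsg.pPrimeCore 2 ↥H := by
    haveI : C₁.Normal := normalClosure_normal
    refine le_trans (le_inf (map_le_iff_le_comap.1 hX) ((commutator_le_left _ _).trans hCcent))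
      (le_sup_core_of_quotient D'
        ((Cfsg.pPrimeCore 2 (↥H ⧸ D')).comap π ⊓ centralizer (D' : Set ↥H)) hD2
        inf_le_right ((map_mono inf_le_left).trans (map_comap_le _ _)))
  -- the odd part
  set R : Subgroup G := (Cfsg.pPrimeCore 2 ↥H ⊓ C₁).map H.subtype with hR
  have hRbot : R = ⊥ := by
    have hMO : Cfsg.pPrimeCore 2 ↥M = ⊥ := CfsgLib.PCore.pPrimeCore_eq_bot_of_normal M hO
    have hBsc : Cfsg.IsStronglyClosed (D.subgroupOf M) (P : Subgroup ↥M) :=
      hP ▸ stronglyClosed_subgroupOf hscD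
    have hBc : IsMulCommutative ↥(D.subgroupOf M) :=
      ⟨⟨fun a b => Subtype.ext (Subtype.ext
        (hc _ (mem_subgroupOf.1 a.2).1 _ (mem_subgroupOf.1 b.2).2))⟩⟩
    have hg := hgood hMO P hBc hBsc
    have hgen := Goldschmidt.normalClosure_subgroupOf_eq_top S D hscD M hMdef
    set φ : ↥H →* MulAut ↥M := (MulAut.conjNormal (H := M)).comp H.subtype with hφ
    have hφval : ∀ (h : ↥H) (m : ↥M), ((φ h m : ↥M) : G) = (h : G) * m * (h : G)⁻¹ :=
      fun h m => MulAut.conjNormal_apply _ _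
    have hT₀O : ∀ r ∈ Cfsg.pPrimeCore 2 ↥H, ∀ t ∈ T₀, (r : G) * t = t * r := by
      intro r hr t ht
      have htH : t ∈ H := le_normalizer ht
      haveI : (T₀.subgroupOf H).Normal := ⟨fun x hx g => mem_subgroupOf.2
        ((mem_normalizer_iff.1 g.2 x).1 (mem_subgroupOf.1 hx))⟩
      have h2 : IsPGroup 2 ↥(T₀.subgroupOf H) :=
        (S.isPGroup'.to_le (inf_le_left : T₀ ≤ _)).comap_subtype
      exact (congrArg Subtype.val (mem_centralizer_iff.1
        (CfsgLib.PCore.pPrimeCore_le_centralizer_pCore hr) ⟨t, htH⟩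
        (CfsgLib.PCore.le_pCore inferInstance h2 (mem_subgroupOf.2 ht)))).symm
    have hcen : ∀ r ∈ R, ∀ m ∈ M, r * m = m * r := by
      rintro _ ⟨r, ⟨hrO, hrC⟩, rfl⟩ m hm
      have h1 : φ r = 1 := by
        refine eq_one_of_generated hconcl hMO P hBc hBsc hg (localFacts hMO P hBc hBsc hg) hgen
          (φ '' Group.conjugatesOfSet ((S₁.subgroupOf H : Subgroup ↥H) : Set ↥H)) ?_ ?_ (φ r) ?_ ?_ ?_
        · rintro _ ⟨x, hx, rfl⟩
          obtain ⟨a, ha, hax⟩ := Group.mem_conjugatesOfSet_iff.1 hx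
          obtain ⟨g, rfl⟩ := isConj_iff.1 hax
          obtain ⟨k, hk⟩ := (S.isPGroup'.to_le h₁.1) ⟨a, mem_subgroupOf.1 ha⟩
          refine ⟨k, ?_⟩
          have hk' : a ^ 2 ^ k = 1 := Subtype.ext (by simpa using congrArg Subtype.val hk)
          rw [← map_pow, conj_pow, hk', mul_one, mul_inv_cancel, map_one]
        · rintro _ ⟨x, hx, rfl⟩ b hb
          have hbD : (b : G) ∈ D := mem_subgroupOf.1 hb
          have hbH : (b : G) ∈ H := hSH (hscD.1 hbD)
          have he := congrArg Subtype.val (mem_centralizer_iff.1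
            (hCcent (conjugatesOfSet_subset_normalClosure hx)) ⟨b, hbH⟩ (mem_subgroupOf.2 hbD))
          refine Subtype.ext ?_
          rw [hφval, mul_inv_eq_iff_eq_mul]
          exact he.symm
        · rw [← MonoidHom.map_closure]
          exact mem_map_of_mem φ hrC
        · refine (Nat.coprime_two_right.1 ?_).of_dvd_nat (orderOf_map_dvd φ r)
          exact Nat.Coprime.coprime_dvd_left (orderOf_dvd_natCard _ hrO)
            CfsgLib.PCore.pPrimeCore_coprime
        · intro t ht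
          rw [hP] at ht
          refine Subtype.ext ?_
          rw [hφval, mul_inv_eq_iff_eq_mul]
          exact hT₀O r hrO t ⟨mem_subgroupOf.1 ht, t.2⟩
      have h2 := congrArg Subtype.val (DFunLike.congr_fun h1 ⟨m, hm⟩)
      rw [hφval, MulAut.one_apply, mul_inv_eq_iff_eq_mul] at h2
      exact h2
    haveI : R.Normal := ⟨fun r hr g => by
      obtain ⟨m, hm, h, hh, rfl⟩ := mem_sup_of_normal_left.1 (htop ▸ mem_top g)
      obtain ⟨x, hx, rfl⟩ := hr
      haveI : C₁.Normal := normalClosure_normal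
      have hx' : h * (x : G) * h⁻¹ ∈ R :=
        ⟨⟨h, hh⟩ * x * ⟨h, hh⟩⁻¹, (inferInstance : (Cfsg.pPrimeCore 2 ↥H ⊓ C₁).Normal).conj_mem x hx _,
          rfl⟩
      rw [show m * h * H.subtype x * (m * h)⁻¹ = m * (h * (x : G) * h⁻¹) * m⁻¹ by
        simp only [coe_subtype]; group, ← hcen _ hx' m hm, mul_inv_cancel_right]
      exact hx'⟩
    rw [eq_bot_iff, ← hO]
    refine CfsgLib.PCore.le_pPrimeCore inferInstance ?_
    rw [hR, card_map_of_injective (Subgroup.subtype_injective _)]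
    exact Nat.Coprime.coprime_dvd_left (card_dvd_of_le inf_le_left) CfsgLib.PCore.pPrimeCore_coprime
  -- lifting to `G`
  have hN : ∀ (A : Subgroup G), A ≤ (S : Subgroup G) →
      normalClosure (A : Set G) ≤
        M ⊔ (normalClosure ((A.subgroupOf H : Subgroup ↥H) : Set ↥H)).map H.subtype :=
    fun A hA => normalClosure_le_sup htop fun h hh a ha =>
      ⟨⟨h, hh⟩ * ⟨a, hSH (hA ha)⟩ * ⟨h, hh⟩⁻¹, normalClosure_normal.conj_mem _
        (subset_normalClosure (mem_subgroupOf.2 ha : (⟨a, hSH (hA ha)⟩ : ↥H) ∈ A.subgroupOf H)) _, rfl⟩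
  set q := QuotientGroup.mk' M
  have hq : ∀ A : Subgroup G, (M ⊔ A).map q = A.map q := fun A => by
    rw [Subgroup.map_sup, show M.map q = ⊥ by
      rw [Subgroup.map_eq_bot_iff, QuotientGroup.ker_mk'], bot_sup_eq]
  have h3 : ⁅normalClosure (S₁ : Set G), normalClosure (S₂ : Set G)⁆ ≤
      ⁅C₁.map H.subtype, C₂.map H.subtype⁆ ⊔ q.ker := by
    rw [← Subgroup.map_le_map_iff, map_commutator, map_commutator]
    refine commutator_mono ?_ ?_
    · exact (map_mono (hN S₁ h₁.1)).trans (hq _).le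
    · exact (map_mono (hN S₂ h₂.1)).trans (hq _).le
  rw [QuotientGroup.ker_mk', ← map_commutator] at h3
  refine h3.trans (sup_le ?_ le_rfl)
  rintro _ ⟨x, hx, rfl⟩
  haveI : C₁.Normal := normalClosure_normal
  obtain ⟨d, hd, r, hr, rfl⟩ := mem_sup_of_normal_left.1 (hXle hx)
  have hrC : r ∈ C₁ := by
    have h := mul_mem (inv_mem (hDC hd)) (commutator_le_left _ _ hx)
    rwa [inv_mul_cancel_left] at h
  have hr1 : (r : G) = 1 := by
    rw [← mem_bot, ← hRbot]
    exact ⟨r, ⟨hr, hrC⟩, rfl⟩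
  rw [coe_subtype, Subgroup.coe_mul, hr1, mul_one]
  exact hDM (mem_subgroupOf.1 hd)

/-- The commutator of the normal closures of two commuting strongly closed 2-subgroups lies in the
normal closure of their intersection times the core. -/
theorem commutator_le_sup_core :
    ⁅normalClosure (S₁ : Set G), normalClosure (S₂ : Set G)⁆ ≤
      normalClosure ((S₁ ⊓ S₂ : Subgroup G) : Set G) ⊔ Cfsg.pPrimeCore 2 G := by
  set O := Cfsg.pPrimeCore 2 G with hOdef
  set π := QuotientGroup.mk' O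
  have hsurj := QuotientGroup.mk'_surjective O
  have hmap : ∀ A : Subgroup G, Cfsg.IsStronglyClosed A (S : Subgroup G) →
      Cfsg.IsStronglyClosed (A.map π) ((S.mapSurjective hsurj : Sylow 2 (G ⧸ O)) : Subgroup (G ⧸ O)) :=
    fun A hA => by
      rw [Sylow.coe_mapSurjective]
      exact Cfsg.Agent.S1250.result S A hA O
  have hinf : S₁.map π ⊓ S₂.map π = (S₁ ⊓ S₂).map π := by
    refine le_antisymm ?_ (map_inf_le _ _ _)
    rintro q ⟨⟨a, ha, rfl⟩, b, hb, hab⟩
    obtain ⟨c, hc', hbc⟩ := (QuotientGroup.mk'_eq_mk' O).1 hab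
    have h1 : c ∈ (S : Subgroup G) ⊓ O := by
      refine ⟨?_, hc'⟩
      have := mul_mem (inv_mem (h₂.1 hb)) (h₁.1 ha)
      rwa [← hbc, inv_mul_cancel_left] at this
    rw [show (S : Subgroup G) ⊓ O = ⊥ from
      CfsgLib.PCore.inf_eq_bot_of_isPGroup_coprime S.isPGroup' CfsgLib.PCore.pPrimeCore_coprime,
      mem_bot] at h1
    rw [h1, mul_one] at hbc
    exact mem_map_of_mem π ⟨ha, hbc ▸ hb⟩
  have h := commutator_le_normalClosure hconcl hgood (S.mapSurjective hsurj) (hmap S₁ h₁) (hmap S₂ h₂)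
    (by
      rintro _ ⟨a, ha, rfl⟩ _ ⟨b, hb, rfl⟩
      rw [← map_mul, ← map_mul, hc a ha b hb])
    CfsgLib.PCore.pPrimeCore_quotient_pPrimeCore
  rw [hinf, coe_map, coe_map, coe_map, ← Subgroup.map_normalClosure _ π hsurj,
    ← Subgroup.map_normalClosure _ π hsurj, ← Subgroup.map_normalClosure _ π hsurj,
    ← map_commutator, Subgroup.map_le_map_iff, QuotientGroup.ker_mk'] at h
  exact h

end

end CfsgLib.ProductMeet
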