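import Cfsg.Agent.Lib.BenderQ.Classify
import Cfsg.Agent.Lib.BenderQ.Bender
import Cfsg.Agent.Lib.Involutions.Basic

/-!
In a group with an action in which every involution fixes exactly one point, an automorphism of odd
order fixing a Sylow 2-subgroup pointwise is trivial (applied to simple groups with a strongly
embedded subgroup).
-/

set_option autoImplicit false
set_option linter.style.haveILetI false

namespace CfsgLib.ProductMeet

open Subgroup MulAction CfsgLib.BenderTrans

universe u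

local instance : Fact (Nat.Prime 2) := ⟨Nat.prime_two⟩

variable {X : Type u} [Group X] [Finite X]

omit [Finite X] in
/-- An element of odd order that is also a 2-element is trivial. -/
theorem eq_one_of_two_odd {T : Subgroup X} (hT : IsPGroup 2 ↥T) {z : X} (hz : z ∈ T) {n : ℕ}
    (hn : Odd n) (h : z ^ n = 1) : z = 1 := by
  obtain ⟨k, hk⟩ := hT ⟨z, hz⟩
  have hk' : z ^ 2 ^ k = 1 := by simpa using congrArg Subtype.val hk
  have h1 : orderOf z ∣ Nat.gcd (2 ^ k) n :=
    Nat.dvd_gcd (orderOf_dvd_of_pow_eq_one hk') (orderOf_dvd_of_pow_eq_one h)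
  rw [(Nat.coprime_two_left.2 hn).pow_left k, Nat.dvd_one, orderOf_eq_one_iff] at h1
  exact h1

/-- Powers of an automorphism moving `a` by an element it fixes. -/
theorem pow_apply_of_translation {Y : Type u} [Group Y] (φ : MulAut Y) {a z : Y} (ha : φ a = a * z)
    (hz : φ z = z) (n : ℕ) : (φ ^ n) a = a * z ^ n := by
  induction n with
  | zero => simp
  | succ n ih =>
    rw [pow_succ', MulAut.mul_apply, ih, map_mul, map_pow, hz, ha, mul_assoc, ← pow_succ']

theorem eq_one_of_fix_sylow [IsSimpleGroup X] (hna : ¬ IsMulCommutative X) {H : Subgroup X}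
    (hH : Cfsg.IsStronglyEmbedded H) (T : Sylow 2 X) (φ : MulAut X) (hφ : Odd (orderOf φ))
    (hfix : ∀ t ∈ (T : Subgroup X), φ t = t) : φ = 1 := by
  classical
  have hna' : ∃ a b : X, a * b ≠ b * a := by
    by_contra h
    push Not at h
    exact hna ⟨⟨h⟩⟩
  have h := oneFix_of_stronglyEmbedded hH
  have hfaith : ∀ g : X, (∀ x : X ⧸ H, g • x = x) → g = 1 := fun g hg => by
    have h1 : g ∈ H.normalCore := fun x => by
      have h2 : ((g * x⁻¹ : X) : X ⧸ H) = ((x⁻¹ : X) : X ⧸ H) := hg ((x⁻¹ : X) : X ⧸ H)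
      simpa [mul_assoc] using QuotientGroup.eq.1 h2.symm
    rwa [BenderQ.normalCore_eq_bot hH, Subgroup.mem_bot] at h1
  have hfour : HasFour X := BenderQ.hasFour_of_simple hna' hH
  -- a point fixed by the Sylow 2-subgroup
  have h2 : 2 ∣ Nat.card X := by
    obtain ⟨t, ht⟩ := h.exists_inv
    exact ht ▸ orderOf_dvd_natCard t
  haveI : Nontrivial ↥(T : Subgroup X) :=
    (Subgroup.nontrivial_iff_ne_bot _).2 (T.ne_bot_of_dvd_card h2)
  obtain ⟨zc, hzc, hz2⟩ : ∃ z : ↥(T : Subgroup X),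
      z ∈ center ↥(T : Subgroup X) ∧ orderOf (z : X) = 2 := by
    haveI := T.isPGroup'.center_nontrivial
    obtain ⟨z, hz⟩ := exists_prime_orderOf_dvd_card' (G := center ↥(T : Subgroup X)) 2 (by
      obtain ⟨k, hk⟩ := (T.isPGroup'.to_subgroup (center ↥(T : Subgroup X))).exists_card_eq
      rcases k with - | k
      · exact absurd hk (by rw [pow_zero]; exact (Finite.one_lt_card).ne')
      · rw [hk]; exact dvd_pow_self 2 k.succ_ne_zero)
    exact ⟨z, z.2, by rw [Subgroup.orderOf_coe, Subgroup.orderOf_coe]; exact hz⟩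
  obtain ⟨c, hc⟩ := h.exists_fix (zc : X) hz2
  have hTc : ∀ t ∈ (T : Subgroup X), t • c = c := fun t ht => by
    refine h.unique _ hz2 _ _ ?_ hc
    have e : (zc : X) * t = t * zc :=
      congrArg Subtype.val ((mem_center_iff.1 hzc ⟨t, ht⟩).symm)
    rw [smul_smul, e, ← smul_smul, hc]
  -- the regular normal subgroup of the stabiliser is the Sylow 2-subgroup
  obtain ⟨Q, hQc, hQn, hQ2, hQtr, hQreg⟩ :=
    BenderQ.benderKernel X (X ⧸ H) h hfaith hfour c
  have hodd : ∀ k : X, k • c = c → ∀ ω : X ⧸ H, ω ≠ c → k • ω = ω → ∀ j : ℕ,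
      k ^ 2 ^ j = 1 → k = 1 := by
    intro k hkc ω hω hkω j
    induction j with
    | zero => simp
    | succ j ih =>
      intro hj
      refine ih (by_contra fun hne => hω ?_)
      have h2' : orderOf (k ^ 2 ^ j) = 2 :=
        orderOf_eq_prime (by rw [← pow_mul, ← pow_succ, hj]) hne
      have hpf : ∀ x : X ⧸ H, k • x = x → ∀ m : ℕ, k ^ m • x = x := fun x hx m => by
        induction m with
        | zero => simp
        | succ m ihm => rw [pow_succ, ← smul_smul, hx, ihm]
      exact h.unique _ h2' _ _ (hpf ω hkω _) (hpf c hkc _)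
  obtain ⟨ω₀, hω₀⟩ := h.nontriv c
  have hTQ : Q = (T : Subgroup X) := by
    refine T.is_maximal' hQ2 fun x hx => ?_
    have hxω : x • ω₀ ≠ c := fun e => hω₀ (smul_left_cancel x (e.trans (hTc x hx).symm))
    obtain ⟨q, hq, hqe⟩ := hQtr ω₀ (x • ω₀) hω₀ hxω
    set k := q⁻¹ * x with hk
    have hsup : IsPGroup 2 ↥((T : Subgroup X) ⊔ Q : Subgroup X) :=
      T.isPGroup'.to_sup_of_normal_right' hQ2 fun y hy => hQn (mem_stabilizer_iff.2 (hTc y hy))
    obtain ⟨j, hj⟩ := hsup ⟨k, mul_mem (mem_sup_right (inv_mem hq)) (mem_sup_left hx)⟩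
    have : k = 1 := hodd k (by
      rw [hk, ← smul_smul, hTc x hx, inv_smul_eq_iff, mem_stabilizer_iff.1 (hQc hq)]) ω₀ hω₀
      (by rw [hk, ← smul_smul, inv_smul_eq_iff, hqe]) j (by simpa using congrArg Subtype.val hj)
    rw [inv_mul_eq_one] at this
    exact this ▸ hq
  subst hTQ
  have hnorm : ∀ g : X, g • c = c → ∀ x ∈ (T : Subgroup X), g * x * g⁻¹ ∈ (T : Subgroup X) :=
    fun g hg x hx => (mem_normalizer_iff.1 (hQn (mem_stabilizer_iff.2 hg)) x).1 hx
  have hinvT : ∀ i : X, orderOf i = 2 → i • c = c → i ∈ (T : Subgroup X) := fun i hi hic => by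
    have h2' : IsPGroup 2 ↥(zpowers i) :=
      IsPGroup.of_card (n := 1) (by rw [Nat.card_zpowers, hi, pow_one])
    exact (T.is_maximal' (h2'.to_sup_of_normal_right' T.isPGroup'
      (zpowers_le.2 (hQn (mem_stabilizer_iff.2 hic)))) le_sup_right).le
        (mem_sup_left (mem_zpowers i))
  -- elements centralising the Sylow 2-subgroup lie in it
  have hcent : ∀ g : X, g • c = c → (∀ x ∈ (T : Subgroup X), g * x = x * g) →
      g ∈ (T : Subgroup X) := by
    intro g hg hgx
    have hgω : g • ω₀ ≠ c := fun e => hω₀ (smul_left_cancel g (e.trans hg.symm))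
    obtain ⟨t, ht, hte⟩ := hQtr ω₀ (g • ω₀) hω₀ hgω
    set k := t⁻¹ * g with hk
    have hkc : k • c = c := by
      rw [hk, ← smul_smul, hg, inv_smul_eq_iff, hTc t ht]
    have hkω : k • ω₀ = ω₀ := by rw [hk, ← smul_smul, inv_smul_eq_iff, hte]
    obtain ⟨a, n, hn, han⟩ := Nat.exists_eq_two_pow_mul_odd (orderOf_pos k).ne'
    have hpf : ∀ x : X ⧸ H, k • x = x → ∀ m : ℕ, k ^ m • x = x := fun x hx m => by
      induction m with
      | zero => simp
      | succ m ihm => rw [pow_succ, ← smul_smul, hx, ihm]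
    have hkn : k ^ n = 1 := hodd _ (hpf c hkc n) ω₀ hω₀ (hpf ω₀ hkω n) a (by
      rw [← pow_mul, mul_comm, ← han, pow_orderOf_eq_one])
    have hgt : Commute t⁻¹ g := (hgx _ (inv_mem ht)).symm
    have hgn : g ^ n = t ^ n := by
      rw [hk, hgt.mul_pow, inv_pow, inv_mul_eq_one] at hkn
      exact hkn.symm
    -- `t` is central in `T`
    have htc : ∀ x ∈ (T : Subgroup X), Commute t x := by
      intro x hx
      have h1 : Commute (t ^ n) x := hgn ▸ (show Commute g x from hgx x hx).pow_left n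
      obtain ⟨j, hj⟩ := T.isPGroup' ⟨t, ht⟩
      have hj' : t ^ 2 ^ j = 1 := by simpa using congrArg Subtype.val hj
      obtain ⟨m, hm0, hm1⟩ :=
        Nat.chineseRemainder ((Nat.coprime_two_left.2 hn).pow_left j).symm 0 1
      obtain ⟨r, hr⟩ := Nat.modEq_zero_iff_dvd.1 hm0
      have e : (t ^ n) ^ r = t := by
        rw [← pow_mul, ← hr]
        calc t ^ m = t ^ (m % 2 ^ j) := (pow_eq_pow_mod m hj')
          _ = t := by
            rw [hm1]
            rcases j with - | j
            · simp at hj'; simp [hj']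
            · rw [Nat.one_mod_eq_one.2 (by
                have := Nat.one_lt_two_pow (n := j + 1) (by omega); omega), pow_one]
      exact e ▸ h1.pow_left r
    have hkx : ∀ x ∈ (T : Subgroup X), Commute k x := fun x hx =>
      (htc x hx).inv_left.mul_left (hgx x hx)
    have hk1 : k = 1 := hfaith k fun x => by
      by_cases hx : x = c
      · rw [hx, hkc]
      · obtain ⟨u, hu, rfl⟩ := hQtr ω₀ x hω₀ hx
        rw [smul_smul, (hkx u hu).eq, ← smul_smul, hkω]
    rw [hk, inv_mul_eq_one] at hk1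
    exact hk1 ▸ ht
  -- the automorphism fixes the stabiliser
  have hstab : ∀ g : X, g • c = c → φ g = g := by
    intro g hg
    have hzT : (zc : X) ∈ (T : Subgroup X) := zc.2
    have hgn : ∀ x ∈ (T : Subgroup X), φ g * x * (φ g)⁻¹ = g * x * g⁻¹ := fun x hx => by
      have := hfix _ (hnorm g hg x hx)
      rwa [map_mul, map_mul, map_inv, hfix x hx] at this
    have hφc : φ g • c = c := by
      set w := φ g * zc * (φ g)⁻¹ with hw
      have hwT : w ∈ (T : Subgroup X) := by rw [hw, hgn _ hzT]; exact hnorm g hg _ hzT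
      refine h.unique w (by rw [hw, CfsgLib.Involutions.orderOf_conj_eq, hz2]) _ _ ?_ (hTc w hwT)
      rw [hw, smul_smul, inv_mul_cancel_right, ← smul_smul, hc]
    set z := g⁻¹ * φ g with hz
    have hzT' : z ∈ (T : Subgroup X) := by
      refine hcent z ?_ fun x hx => ?_
      · rw [hz, ← smul_smul, hφc, inv_smul_eq_iff, hg]
      · have e := hgn x hx
        calc z * x = g⁻¹ * (φ g * x * (φ g)⁻¹) * φ g := by rw [hz]; group
          _ = x * z := by rw [e, hz]; group
    have e := pow_apply_of_translation φ (a := g) (z := z) (by rw [hz, mul_inv_cancel_left])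
      (hfix z hzT') (orderOf φ)
    rw [pow_orderOf_eq_one, MulAut.one_apply] at e
    have := eq_one_of_two_odd T.isPGroup' hzT' hφ (left_eq_mul.1 e)
    rw [hz, inv_mul_eq_one] at this
    exact this.symm
  -- the involutions of the stabiliser are conjugate in it
  obtain ⟨j, hj, hjc⟩ : ∃ j : X, orderOf j = 2 ∧ j • c ≠ c := by
    obtain ⟨g, hg⟩ := h.trans c ω₀
    refine ⟨g * zc * g⁻¹, by rw [CfsgLib.Involutions.orderOf_conj_eq, hz2], fun e => hω₀ ?_⟩
    refine h.unique (g * zc * g⁻¹) (by rw [CfsgLib.Involutions.orderOf_conj_eq, hz2]) _ _ ?_ e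
    rw [← hg, smul_smul, inv_mul_cancel_right, ← smul_smul, hc]
  have hclass : ∀ i : X, orderOf i = 2 → i • c = c → IsConj i j := by
    intro i hi hic
    by_contra hne
    obtain ⟨w, hw, hwi, hwj⟩ := CfsgLib.Involutions.exists_common_involution hi hj
      hne
    have hwc : w • c = c := h.unique i hi _ _ (by
      rw [smul_smul, ← hwi.eq, ← smul_smul, hic]) hic
    exact hjc (h.unique w hw _ _ (by rw [smul_smul, hwj.eq, ← smul_smul, hwc]) hwc)
  have hone : ∀ i : X, orderOf i = 2 → i • c = c → ∃ g : X, g • c = c ∧ g * zc * g⁻¹ = i := by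
    intro i hi hic
    obtain ⟨g, hg⟩ := isConj_iff.1 ((hclass (zc : X) hz2 hc).trans (hclass i hi hic).symm)
    refine ⟨g, h.unique i hi _ _ ?_ hic, hg⟩
    rw [← hg, smul_smul, inv_mul_cancel_right, ← smul_smul, hc]
  -- the stabiliser of a second point fixes no further point
  have hfixed : ∀ ω : X ⧸ H, ω ≠ c → (∀ k : X, k • c = c → k • ω₀ = ω₀ → k • ω = ω) → ω = ω₀ := by
    intro ω hω hK
    obtain ⟨u, hu, rfl⟩ := hQtr ω₀ ω hω₀ hω
    by_contra hne
    have hu1 : u ≠ 1 := fun e => hne (by rw [e, one_smul])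
    have hcomm : ∀ k : X, k • c = c → k • ω₀ = ω₀ → Commute k u := by
      intro k hkc hkω
      have h1 : (u⁻¹ * (k * u * k⁻¹)) • ω₀ = ω₀ := by
        rw [← smul_smul, inv_smul_eq_iff, mul_assoc, ← smul_smul, ← smul_smul,
          show k⁻¹ • ω₀ = ω₀ by rw [inv_smul_eq_iff, hkω], hK k hkc hkω]
      have h2' := hQreg _ (mul_mem (inv_mem hu) (hnorm k hkc u hu)) ω₀ hω₀ h1
      rw [inv_mul_eq_one] at h2'
      exact mul_inv_eq_iff_eq_mul.1 h2'.symm
    obtain ⟨m, hm⟩ : ∃ m, orderOf (u ^ m) = 2 := by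
      obtain ⟨a, ha⟩ := IsPGroup.iff_orderOf.1 T.isPGroup' ⟨u, hu⟩
      rw [← Subgroup.orderOf_coe] at ha
      rcases a with - | a
      · exact absurd (orderOf_eq_one_iff.1 (by simpa using ha)) hu1
      · refine ⟨2 ^ a, ?_⟩
        rw [orderOf_pow_of_dvd (by positivity) (by rw [ha, pow_succ]; exact Dvd.intro 2 rfl), ha,
          pow_succ, Nat.mul_div_cancel_left _ (by positivity)]
    set z₀ := u ^ m
    have hz₀ : z₀ ∈ (T : Subgroup X) := pow_mem hu m
    have hsplit : ∀ g : X, g • c = c → ∃ t ∈ (T : Subgroup X), ∃ k : X,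
        k • c = c ∧ k • ω₀ = ω₀ ∧ g = t * k := by
      intro g hg
      obtain ⟨t, ht, hte⟩ := hQtr ω₀ (g • ω₀) hω₀
        fun e => hω₀ (smul_left_cancel g (e.trans hg.symm))
      exact ⟨t, ht, t⁻¹ * g, by rw [← smul_smul, hg, inv_smul_eq_iff, hTc t ht],
        by rw [← smul_smul, inv_smul_eq_iff, hte], by group⟩
    have hzt : ∀ t ∈ (T : Subgroup X), (zc : X) * t = t * zc := fun t ht =>
      congrArg Subtype.val ((mem_center_iff.1 hzc ⟨t, ht⟩).symm)
    -- every involution of the stabiliser equals the central one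
    have heq : (zc : X) = z₀ := by
      obtain ⟨g, hg, hge⟩ := hone z₀ hm (hTc z₀ hz₀)
      obtain ⟨t, ht, k, hkc, hkω, hgk⟩ := hsplit g⁻¹ (by rw [inv_smul_eq_iff, hg])
      have hk0 : Commute k z₀ := (hcomm k hkc hkω).pow_right m
      have e : (zc : X) = t * z₀ * t⁻¹ :=
        calc (zc : X) = g⁻¹ * z₀ * (g⁻¹)⁻¹ := by rw [← hge]; group
          _ = t * (k * z₀ * k⁻¹) * t⁻¹ := by rw [hgk]; group
          _ = t * z₀ * t⁻¹ := by rw [hk0.eq, mul_inv_cancel_right]
      calc (zc : X) = t⁻¹ * (zc * t) := by rw [hzt t ht, inv_mul_cancel_left]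
        _ = z₀ := by rw [e]; group
    have huniq : ∀ i : X, orderOf i = 2 → i • c = c → i = zc := by
      intro i hi hic
      obtain ⟨g, hg, hge⟩ := hone i hi hic
      obtain ⟨t, ht, k, hkc, hkω, rfl⟩ := hsplit g hg
      have hk0 : Commute k (zc : X) := heq ▸ (hcomm k hkc hkω).pow_right m
      calc i = t * (k * zc * k⁻¹) * t⁻¹ := by rw [← hge]; group
        _ = zc := by rw [hk0.eq, mul_inv_cancel_right, ← hzt t ht, mul_inv_cancel_right]
    obtain ⟨a, b, ha, hb, hab, hcomm'⟩ := hfour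
    obtain ⟨x, hx⟩ := h.exists_fix a ha
    have hbx : b • x = x :=
      h.unique a ha _ _ (by rw [smul_smul, hcomm'.eq, ← smul_smul, hx]) hx
    obtain ⟨g, hg⟩ := h.trans x c
    have hmove : ∀ w : X, orderOf w = 2 → w • x = x → g * w * g⁻¹ = zc := fun w hw hwx =>
      huniq _ (by rw [CfsgLib.Involutions.orderOf_conj_eq, hw]) (by
        rw [← hg, smul_smul, inv_mul_cancel_right, ← smul_smul, hwx])
    exact hab (mul_left_cancel (mul_right_cancel ((hmove a ha hx).trans (hmove b hb hbx).symm)))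
  -- the automorphism fixes every point
  obtain ⟨g₀, hg₀⟩ := h.trans c ω₀
  have hne₀ : φ g₀ • c ≠ c := fun e => hω₀ (by
    have h1 := φ.injective (hstab _ e).symm
    rw [← hg₀, h1, e])
  have hω : φ g₀ • c = ω₀ := by
    refine hfixed _ hne₀ fun k hkc hkω => ?_
    have h1 : (g₀⁻¹ * k * g₀) • c = c := by
      rw [← smul_smul, ← smul_smul, hg₀, hkω, inv_smul_eq_iff, hg₀]
    have h2' : φ g₀ * (g₀⁻¹ * k * g₀) = k * φ g₀ := by
      have e := hstab _ h1
      rw [map_mul, map_mul, map_inv, hstab k hkc] at e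
      rw [← e]; group
    calc k • φ g₀ • c = (φ g₀ * (g₀⁻¹ * k * g₀)) • c := by rw [h2', smul_smul]
      _ = φ g₀ • c := by rw [← smul_smul, h1]
  have hall : ∀ g : X, φ g • c = g • c := by
    intro g
    by_cases hg : g • c = c
    · rw [hstab g hg]
    · obtain ⟨u, hu, hue⟩ := hQtr ω₀ (g • c) hω₀ hg
      have h1 : ((u * g₀)⁻¹ * g) • c = c := by
        rw [← smul_smul, inv_smul_eq_iff, ← smul_smul, hg₀, hue]
      have e : g = u * g₀ * ((u * g₀)⁻¹ * g) := by group
      conv_lhs => rw [e, map_mul, map_mul, hfix u hu, hstab _ h1]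
      rw [← smul_smul, h1, ← smul_smul, hω, hue]
  refine MulEquiv.ext fun a => ?_
  rw [MulAut.one_apply]
  have hker : a⁻¹ * φ a = 1 := hfaith _ fun x => by
    obtain ⟨g, rfl⟩ := h.trans c x
    have h1 := hall (a * g)
    rw [map_mul, ← smul_smul, hall g, ← smul_smul] at h1
    rw [← smul_smul, h1, inv_smul_smul]
  rw [inv_mul_eq_one] at hker
  exact hker.symm

end CfsgLib.ProductMeet
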