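import Cfsg.Agent.Lib.ProductMeet.Main
import Cfsg.Agent.Lib.Goldschmidt.CompSCA
import Cfsg.Agent.Lib.Goldschmidt.Good
import Cfsg.Agent.Lib.Goldschmidt.Main
import Cfsg.Agent.Lib.Walter.CoreFree

/-!
The product theorem for commuting strongly closed subgroups that may meet, from Goldschmidt's theorem.
-/

set_option autoImplicit false

namespace CfsgLib.ProductMeet

open Subgroup CfsgLib.Goldschmidt
open scoped commutatorElement

universe u

/-- The product theorem from the inputs of Goldschmidt's theorem. -/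
theorem commutator_le_of_goldschmidt (I : Inputs.{u}) {G : Type u} [Group G] [Finite G]
    (S : Sylow 2 G) {S₁ S₂ : Subgroup G} (h₁ : Cfsg.IsStronglyClosed S₁ (S : Subgroup G))
    (h₂ : Cfsg.IsStronglyClosed S₂ (S : Subgroup G)) (hc : ∀ a ∈ S₁, ∀ b ∈ S₂, a * b = b * a) :
    ⁅normalClosure (S₁ : Set G), normalClosure (S₂ : Set G)⁆ ≤
      normalClosure ((S₁ ⊓ S₂ : Subgroup G) : Set G) ⊔ Cfsg.pPrimeCore 2 G :=
  commutator_le_sup_core (fun X _ _ _ hX h => concl_of_inputs I X hX h)
    (fun {_} _ _ hO T {_} hB hsc => goodComps_of_concl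
      (fun _ _ _ _ hX _ hC => agood_of_concl hX hC)
      (fun X _ _ _ hX h => concl_of_inputs I X hX h) hO T hB hsc)
    S h₁ h₂ hc

end CfsgLib.ProductMeet
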